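import Cfsg.Agent.S0907
import Cfsg.Agent.S0910
import Cfsg.Agent.S0960
import Cfsg.Agent.Lib.Blocks.Covering
import Cfsg.Agent.Lib.Blocks.Vanishing
import Cfsg.Agent.Lib.CharTheory.Burnside
import Cfsg.Agent.Lib.CharTheory.Degree
import Cfsg.Agent.Lib.CharTheory.More

/-!
# A group whose nonlinear irreducible degrees are primes is solvable
-/

namespace CfsgLib.PrimeDegrees

open Cfsg CfsgLib.CharTheory
open scoped ComplexConjugate

set_option linter.unusedVariables false
set_option linter.style.haveILetI false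
set_option linter.unusedSectionVars false

universe u

/-- Nonlinear degrees are primes. -/
def HasPrimeDegrees (G : Type u) [Group G] : Prop :=
  ∀ χ : IrrCharacter G, charDegree (χ : G → ℂ) ≠ 1 → (charDegree (χ : G → ℂ)).Prime

theorem charDegree_dvd_card {G : Type u} [Group G] [Finite G] (χ : IrrCharacter G) :
    charDegree (χ : G → ℂ) ∣ Nat.card G :=
  (charDegree_dvd_index_kernel χ.2).trans (Subgroup.index_dvd_card _)

theorem degree_conditions_normal {G : Type u} [Group G] [Finite G] (N : Subgroup G) [N.Normal]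
    (h : HasPrimeDegrees G) : HasPrimeDegrees N := by
  classical
  haveI := Fintype.ofFinite G
  haveI := Fintype.ofFinite N
  intro θ hθ
  obtain ⟨χ, hne⟩ := CfsgLib.Blocks.exists_over (N := N) θ
  obtain ⟨m, hm⟩ := classInner_char_nat
    (isCharacter_restrict (isCharacter_of_irr χ.2) N) (isCharacter_of_irr θ.2)
  have hd := clifford_degree N χ.2 θ.2 hne
  rw [hm, (charDegree_spec' χ.2).1, (charDegree_spec' θ.2).1] at hd
  have hd' : charDegree (χ : G → ℂ) =
      m * (inertia N (θ : N → ℂ)).index * charDegree (θ : N → ℂ) := by exact_mod_cast hd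
  have hdvd : charDegree (θ : N → ℂ) ∣ charDegree (χ : G → ℂ) := ⟨_, hd'.trans (mul_comm _ _)⟩
  by_cases hχ : charDegree (χ : G → ℂ) = 1
  · exact absurd (Nat.dvd_one.1 (hχ ▸ hdvd)) hθ
  · rcases (Nat.dvd_prime (h χ hχ)).1 hdvd with e | e
    · exact absurd e hθ
    · rw [e]; exact h χ hχ

theorem degree_conditions_quotient {G : Type u} [Group G] [Finite G] (N : Subgroup G) [N.Normal]
    (h : HasPrimeDegrees G) : HasPrimeDegrees (G ⧸ N) := by
  intro θ hθ
  exact h ⟨fun g => (θ : G ⧸ N → ℂ) (g : G ⧸ N),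
    isIrrCharacter_comp_surjective θ.2 (QuotientGroup.mk' N) (QuotientGroup.mk'_surjective N)⟩ hθ

theorem center_bot {G : Type u} [Group G] [IsSimpleGroup G]
    (hna : ∃ a b : G, a * b ≠ b * a) : Subgroup.center G = ⊥ := by
  rcases (inferInstance : (Subgroup.center G).Normal).eq_bot_or_eq_top with h | h
  · exact h
  · obtain ⟨a, b, hab⟩ := hna
    exact absurd ((Subgroup.mem_center_iff.1 (h ▸ Subgroup.mem_top b : b ∈ Subgroup.center G)) a) hab

theorem faithful {G : Type u} [Group G] [Finite G] [IsSimpleGroup G] (χ : IrrCharacter G)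
    (hne : (χ : G → ℂ) ≠ fun _ => 1) (g : G) (hg : (χ : G → ℂ) g = (χ : G → ℂ) 1) : g = 1 := by
  have hχ := isCharacter_of_irr χ.2
  rcases (charKernel_normal (χ : G → ℂ) hχ).eq_bot_or_eq_top with h | h
  · have := (mem_charKernel hχ g).2 hg
    rwa [h, Subgroup.mem_bot] at this
  · exact absurd (irr_eq_one_of_kernel_top χ.2 fun x =>
      (mem_charKernel hχ x).1 (h ▸ Subgroup.mem_top x)) hne

theorem vanish_of_coprime {G : Type u} [Group G] [Finite G] [IsSimpleGroup G]
    (hna : ∃ a b : G, a * b ≠ b * a) (χ : IrrCharacter G) (hne : (χ : G → ℂ) ≠ fun _ => 1)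
    {g : G} (hg : g ≠ 1)
    (hcop : Nat.Coprime (charDegree (χ : G → ℂ)) (Subgroup.centralizer ({g} : Set G)).index) :
    (χ : G → ℂ) g = 0 := by
  obtain ⟨n, ρ, hρ, hχ'⟩ := χ.2
  have hχ := hχ'.symm
  have hd : Module.finrank ℂ (Fin n → ℂ) = charDegree (χ : G → ℂ) := by
    have := (charDegree_spec' χ.2).1
    rw [hχ, ρ.char_one] at this
    rw [hχ]
    exact_mod_cast this
  rcases zero_or_norm_of_coprime ρ g (hd ▸ hcop) with h0 | h1
  · rw [hχ]; exact h0
  exfalso
  obtain ⟨ω, hω⟩ := (norm_character_eq_iff ρ g).mp h1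
  have hinj : ∀ a : G, ρ a = 1 → a = 1 := fun a ha => faithful χ hne a (by
    rw [hχ]; simp [Representation.character, ha])
  have hgc : g ∈ Subgroup.center G := by
    refine Subgroup.mem_center_iff.2 fun x => ?_
    have hx : ρ (x * g * x⁻¹ * g⁻¹) = 1 := by
      have e1 : ρ x * ρ g = ρ g * ρ x := by
        rw [hω, ← Module.End.one_eq_id, mul_smul_comm, smul_mul_assoc, mul_one, one_mul]
      rw [map_mul, map_mul, map_mul, e1, mul_assoc (ρ g), ← map_mul, mul_inv_cancel, map_one,
        mul_one, ← map_mul, mul_inv_cancel, map_one]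
    have := hinj _ hx
    rwa [mul_inv_eq_one, mul_inv_eq_iff_eq_mul] at this
  rw [center_bot hna, Subgroup.mem_bot] at hgc
  exact hg hgc

theorem sylow_card_eq {G : Type u} [Group G] [Finite G] [IsSimpleGroup G]
    (hna : ∃ a b : G, a * b ≠ b * a) {p : ℕ} [Fact p.Prime] (χ : IrrCharacter G)
    (hdeg : charDegree (χ : G → ℂ) = p) (P : Sylow p G) : Nat.card P = p := by
  classical
  have hp : p.Prime := Fact.out
  have hpG : p ∣ Nat.card G := hdeg ▸ charDegree_dvd_card χ
  have hne : (χ : G → ℂ) ≠ fun _ => 1 := fun e => by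
    have h1 : charDegree (χ : G → ℂ) = 1 := by rw [e]; simp [charDegree]
    exact hp.ne_one (hdeg.symm.trans h1)
  set Q : Subgroup G := (P : Subgroup G) with hQdef
  haveI := Fintype.ofFinite Q
  obtain ⟨a, ha⟩ := (IsPGroup.iff_card (p := p)).1 P.2
  have hz : ∀ z ∈ Q, z ≠ 1 → (∀ w ∈ Q, w * z = z * w) → (χ : G → ℂ) z = 0 := by
    intro z hzQ hz1 hcen
    refine vanish_of_coprime hna χ hne hz1 ?_
    rw [hdeg]
    refine hp.coprime_iff_not_dvd.2 fun hd => P.not_dvd_index ?_
    refine hd.trans (Subgroup.index_dvd_of_le fun w hw => ?_)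
    exact Subgroup.mem_centralizer_singleton_iff.2 (hcen w hw)
  obtain ⟨l, hl, hsum⟩ := exists_list_irr (isCharacter_restrict (isCharacter_of_irr χ.2) Q)
  have hQnt : Nontrivial Q := by
    rw [← Finite.one_lt_card_iff_nontrivial]
    exact lt_of_lt_of_le hp.one_lt (Nat.le_of_dvd Nat.card_pos (P.dvd_card_of_dvd_card hpG))
  haveI := P.2.center_nontrivial
  obtain ⟨z₀, hz₀⟩ := exists_ne (1 : Subgroup.center Q)
  have hz₀1 : ((z₀ : Q) : G) ≠ 1 := fun e => hz₀ (Subtype.ext (Subtype.ext e))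
  have hz₀c : ∀ w ∈ Q, w * ((z₀ : Q) : G) = ((z₀ : Q) : G) * w := fun w hw =>
    congrArg Subtype.val (Subgroup.mem_center_iff.1 z₀.2 ⟨w, hw⟩)
  have hzero : (χ : G → ℂ) ((z₀ : Q) : G) = 0 := hz _ (z₀ : Q).2 hz₀1 hz₀c
  have hsum1 : ∀ y : Q, (χ : G → ℂ) (y : G) = (l.map fun θ => θ y).sum := by
    intro y
    have := congrFun hsum y
    refine this.trans ?_
    clear this hl hsum
    induction l with
    | nil => simp
    | cons t l ih => simp [ih]
  -- all constituents are linear
  have hlin : ∀ θ ∈ l, θ 1 = 1 := by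
    intro θ hθ
    obtain ⟨n, ρ, hρ, rfl⟩ := hl θ hθ
    by_contra hne1
    rw [ρ.char_one] at hne1
    set d := Module.finrank ℂ (Fin n → ℂ) with hd
    have hdvd : d ∣ p ^ a := ha ▸ (degree_dvd_index_center ρ).trans (Subgroup.index_dvd_card _)
    obtain ⟨j, -, hj⟩ := (Nat.dvd_prime_pow hp).1 hdvd
    have hdp : p ≤ d := by
      rcases Nat.eq_zero_or_pos j with h0 | h0
      · exact absurd (by rw [hj, h0, pow_zero, Nat.cast_one]) hne1
      · rw [hj]; exact Nat.le_self_pow h0.ne' p
    obtain ⟨l₁, l₂, hl12⟩ := List.append_of_mem hθ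
    have hdegs : ∀ l' : List (Q → ℂ), (∀ x ∈ l', IsIrrCharacter Q x) →
        ∃ k : ℕ, l'.length ≤ k ∧ (l'.map fun θ => θ 1).sum = (k : ℂ) := by
      intro l' hl'
      induction l' with
      | nil => exact ⟨0, le_rfl, by simp⟩
      | cons t l' ih =>
        obtain ⟨k, hk, hk'⟩ := ih fun x hx => hl' x (List.mem_cons_of_mem _ hx)
        obtain ⟨e, he, he'⟩ := irr_degree_pos (hl' t (List.mem_cons_self ..))
        refine ⟨e + k, ?_, ?_⟩
        · simp only [List.length_cons]; omega
        · rw [List.map_cons, List.sum_cons, hk', he']; push_cast; ring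
    obtain ⟨k₁, hk₁, hs₁⟩ := hdegs l₁ fun x hx => hl x (hl12 ▸ List.mem_append_left _ hx)
    obtain ⟨k₂, hk₂, hs₂⟩ := hdegs l₂ fun x hx =>
      hl x (hl12 ▸ List.mem_append_right _ (List.mem_cons_of_mem _ hx))
    have htot := hsum1 1
    rw [Subgroup.coe_one, (charDegree_spec' χ.2).1, hdeg, hl12, List.map_append, List.map_cons,
      List.sum_append, List.sum_cons, hs₁, hs₂, ρ.char_one, ← hd] at htot
    have htot' : p = k₁ + (d + k₂) := by exact_mod_cast htot
    have hl1 : l₁ = [] := List.eq_nil_of_length_eq_zero (by omega)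
    have hl2 : l₂ = [] := List.eq_nil_of_length_eq_zero (by omega)
    have hval := hsum1 (z₀ : Q)
    rw [hzero, hl12, hl1, hl2] at hval
    simp only [List.nil_append, List.map_cons, List.map_nil, List.sum_cons, List.sum_nil,
      add_zero] at hval
    obtain ⟨ω, hω⟩ := exists_scalar_of_mem_center ρ z₀.2
    have hnorm := (norm_character_eq_iff ρ (z₀ : Q)).2 ⟨ω, hω⟩
    rw [← hval, norm_zero, ← hd] at hnorm
    have : d = 0 := by exact_mod_cast hnorm.symm
    exact absurd this (by have := hp.pos; omega)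
  -- hence abelian
  have hab : ∀ a b : Q, a * b = b * a := by
    intro a b
    have hval : (χ : G → ℂ) ((a * b * a⁻¹ * b⁻¹ : Q) : G) = (χ : G → ℂ) ((1 : Q) : G) := by
      rw [hsum1, hsum1]
      congr 1
      refine List.map_congr_left fun θ hθ => ?_
      obtain ⟨φ, hφ⟩ := exists_hom_of_degree_one (isCharacter_of_irr (hl θ hθ)) (hlin θ hθ)
      rw [hφ]
      simp [mul_comm]
    have h1 := faithful χ hne _ (hval.trans (by rw [Subgroup.coe_one]))
    have h2 : a * b * a⁻¹ * b⁻¹ = 1 := Subtype.ext h1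
    rwa [mul_inv_eq_one, mul_inv_eq_iff_eq_mul] at h2
  obtain ⟨m, hm⟩ := classInner_char_nat
    (isCharacter_restrict (isCharacter_of_irr χ.2) Q) (isCharacter_one (G := Q))
  rw [classInner, ← Finset.add_sum_erase _ _ (Finset.mem_univ (1 : Q)),
    Finset.sum_eq_zero (s := Finset.univ.erase (1 : Q)) (fun y hy => by
      have hy1 : (y : G) ≠ 1 := fun e => (Finset.mem_erase.1 hy).1 (Subtype.ext e)
      rw [hz _ y.2 hy1 fun w hw => congrArg Subtype.val (hab ⟨w, hw⟩ y), zero_mul]),
    add_zero, Subgroup.coe_one, (charDegree_spec' χ.2).1, hdeg, map_one, mul_one] at hm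
  rw [inv_mul_eq_iff_eq_mul₀ (Nat.cast_ne_zero.2 Nat.card_pos.ne')] at hm
  have hm' : p = Nat.card Q * m := by exact_mod_cast hm
  rcases (Nat.dvd_prime hp).1 ⟨m, hm'⟩ with e | e
  · have := Finite.one_lt_card (α := Q); omega
  · exact e

theorem simple_false {G : Type u} [Group G] [Finite G] [IsSimpleGroup G]
    (hna : ∃ a b : G, a * b ≠ b * a) (h : HasPrimeDegrees G) : False := by
  classical
  haveI := Fintype.ofFinite G
  have hex : ∃ χ : IrrCharacter G, charDegree (χ : G → ℂ) ≠ 1 := by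
    by_contra hc
    push Not at hc
    obtain ⟨a, b, hab⟩ := hna
    refine hab (commutative_iff_degree_one.2 (fun χ => ?_) a b)
    rw [(charDegree_spec' χ.2).1, hc χ, Nat.cast_one]
  obtain ⟨χ₁, hχ₁⟩ := hex
  set S := (Finset.univ.filter fun χ : IrrCharacter G => charDegree (χ : G → ℂ) ≠ 1) with hS
  have hSne : S.Nonempty := ⟨χ₁, by rw [hS]; simp [hχ₁]⟩
  obtain ⟨χ₀, hχ₀S, hmax⟩ := S.exists_max_image (fun χ => charDegree (χ : G → ℂ)) hSne
  have hχ₀ : charDegree (χ₀ : G → ℂ) ≠ 1 := by simpa [hS] using hχ₀S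
  set p := charDegree (χ₀ : G → ℂ) with hpdef
  haveI : Fact p.Prime := ⟨h χ₀ hχ₀⟩
  have hp : p.Prime := Fact.out
  -- the only linear character is trivial
  have hone : ∀ χ : IrrCharacter G, charDegree (χ : G → ℂ) = 1 → (χ : G → ℂ) = fun _ => 1 := by
    intro χ hχ
    by_contra hne
    obtain ⟨φ, hφ⟩ := exists_hom_of_degree_one (isCharacter_of_irr χ.2) (by
      rw [(charDegree_spec' χ.2).1, hχ, Nat.cast_one])
    obtain ⟨a, b, hab⟩ := hna
    have hc := faithful χ hne (a * b * a⁻¹ * b⁻¹) (by rw [hφ]; simp [mul_comm])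
    rw [mul_inv_eq_one, mul_inv_eq_iff_eq_mul] at hc
    exact hab hc
  have hle : ∀ χ : IrrCharacter G, charDegree (χ : G → ℂ) ≠ 1 → charDegree (χ : G → ℂ) ≤ p :=
    fun χ hχ => hmax χ (by simp [hS, hχ])
  have h2 : ∀ χ : IrrCharacter G, charDegree (χ : G → ℂ) ≠ 2 := by
    intro χ hχ
    haveI : Fact (Nat.Prime 2) := ⟨Nat.prime_two⟩
    obtain ⟨T⟩ : Nonempty (Sylow 2 G) := inferInstance
    have hT := sylow_card_eq hna χ hχ T
    have hcyc : IsCyclic T := isCyclic_of_prime_card hT
    have hmin : (Nat.card G).minFac = 2 :=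
      (Nat.minFac_eq_two_iff _).2 (hχ ▸ charDegree_dvd_card χ)
    have hker := IsCyclic.normalizer_le_centralizer hmin hcyc
    have hcomp := MonoidHom.ker_transferSylow_isComplement' T hker
    rcases (MonoidHom.normal_ker (MonoidHom.transferSylow T hker)).eq_bot_or_eq_top with e | e
    · rw [e] at hcomp
      have := hcomp.card_mul
      rw [Subgroup.card_bot, one_mul] at this
      obtain ⟨a, b, hab⟩ := hna
      haveI : IsCyclic G := isCyclic_of_prime_card (p := 2) (this.symm.trans hT)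
      exact hab ((IsMulCommutative.is_comm (M := G)).comm a b)
    · rw [e] at hcomp
      have := hcomp.disjoint.eq_bot
      rw [top_inf_eq] at this
      have := congrArg (fun H : Subgroup G => Nat.card H) this
      simp only [Subgroup.card_bot] at this
      omega
  have hpodd : p ≠ 2 := h2 χ₀
  have hodd : ∀ χ : IrrCharacter G, charDegree (χ : G → ℂ) ≠ 1 →
      Odd (charDegree (χ : G → ℂ)) := fun χ hχ => (h χ hχ).odd_of_ne_two (h2 χ)
  obtain ⟨P⟩ : Nonempty (Sylow p G) := inferInstance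
  have hP : Nat.card P = p := sylow_card_eq hna χ₀ rfl P
  obtain ⟨M, hM⟩ := CfsgLib.Blocks.exists_isPModular hp
  set e := (Subgroup.centralizer ((P : Subgroup G) : Set G)).relIndex
    (Subgroup.normalizer ((P : Subgroup G) : Set G)) with he
  have hmods := (Cfsg.Agent.S0960.result p M hM hpodd P hP e he.symm).2
  -- degrees in the principal block
  set B := principalBlock M G with hB
  have hfacts : ∀ χ ∈ B, (χ : G → ℂ) ≠ (fun _ => 1) →
      Odd (charDegree (χ : G → ℂ)) ∧ 1 < charDegree (χ : G → ℂ) ∧ charDegree (χ : G → ℂ) < p ∧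
      ((charDegree (χ : G → ℂ) : ℤ) ≡ (e : ℤ) [ZMOD p] ∨
        (charDegree (χ : G → ℂ) : ℤ) ≡ -(e : ℤ) [ZMOD p]) := by
    intro χ hχ hne
    have hd1 : charDegree (χ : G → ℂ) ≠ 1 := fun e1 => hne (hone χ e1)
    have hgt : 1 < charDegree (χ : G → ℂ) := (h χ hd1).one_lt
    have hlt : charDegree (χ : G → ℂ) < p := by
      refine lt_of_le_of_ne (hle χ hd1) fun e1 => hne ?_
      refine Cfsg.Agent.S0910.result p M hM hna χ hχ 1 ?_
      rw [(charDegree_spec' χ.2).1, e1, pow_one]
    have ho := hodd χ hd1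
    refine ⟨ho, hgt, hlt, ?_⟩
    rcases hmods χ hχ with h3 | h3 | h3 | h3
    · exfalso
      have h4 := Int.ModEq.dvd h3
      have := Int.eq_zero_of_abs_lt_dvd h4 (by rw [abs_lt]; constructor <;> omega)
      omega
    · exfalso
      have h4 := Int.ModEq.dvd h3
      have h5 : (p : ℤ) ∣ (charDegree (χ : G → ℂ) : ℤ) + 1 := by
        obtain ⟨c, hc⟩ := h4
        exact ⟨-c, by linear_combination -hc⟩
      have h6 : p ∣ charDegree (χ : G → ℂ) + 1 := by exact_mod_cast h5
      have h7 := Nat.le_of_dvd (by omega) h6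
      have h8 : charDegree (χ : G → ℂ) + 1 = p := by omega
      obtain ⟨t, ht⟩ := ho
      obtain ⟨s, hs⟩ := hp.odd_of_ne_two hpodd
      omega
    · exact Or.inl h3
    · exact Or.inr h3
  have hsame : ∀ χ ∈ B, (χ : G → ℂ) ≠ (fun _ => 1) → ∀ ψ ∈ B, (ψ : G → ℂ) ≠ (fun _ => 1) →
      charDegree (χ : G → ℂ) = charDegree (ψ : G → ℂ) := by
    intro χ hχ hχ1 ψ hψ hψ1
    obtain ⟨⟨a, ha⟩, ha1, ha2, ha3⟩ := hfacts χ hχ hχ1
    obtain ⟨⟨b, hb⟩, hb1, hb2, hb3⟩ := hfacts ψ hψ hψ1
    obtain ⟨s, hs⟩ := hp.odd_of_ne_two hpodd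
    have key : ((p : ℤ) ∣ (charDegree (χ : G → ℂ) : ℤ) - charDegree (ψ : G → ℂ)) ∨
        ((p : ℤ) ∣ (charDegree (χ : G → ℂ) : ℤ) + charDegree (ψ : G → ℂ)) := by
      rcases ha3 with x | x <;> rcases hb3 with y | y
      · exact Or.inl ((x.trans y.symm).symm.dvd)
      · exact Or.inr (by simpa using (x.add y).symm.dvd)
      · exact Or.inr (by simpa [add_comm] using (x.add y).symm.dvd)
      · exact Or.inl ((x.trans y.symm).symm.dvd)
    rcases key with k | k
    · have := Int.eq_zero_of_abs_lt_dvd k (by rw [abs_lt]; constructor <;> omega)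
      omega
    · have k' : p ∣ charDegree (χ : G → ℂ) + charDegree (ψ : G → ℂ) := by exact_mod_cast k
      obtain ⟨c, hc⟩ := k'
      have hc1 : c < 2 := by
        by_contra hcc
        have : p * 2 ≤ p * c := Nat.mul_le_mul_left p (by omega)
        omega
      interval_cases c <;> omega
  -- orthogonality
  obtain ⟨x, hx⟩ := exists_prime_orderOf_dvd_card' p (hpdef ▸ charDegree_dvd_card χ₀)
  have horth := Cfsg.Agent.S0907.result p M hM B (CfsgLib.Blocks.principalBlock_isPBlock) 1 x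
    (by rw [orderOf_one]; exact hp.not_dvd_one) (by rw [hx])
  rw [finsum_mem_eq_toFinset_sum _ B] at horth
  let one : IrrCharacter G := ⟨fun _ => 1, isIrrCharacter_one⟩
  have honeB : one ∈ B.toFinset := by
    rw [Set.mem_toFinset, hB]
    exact CfsgLib.Blocks.oneIrr_mem hM
  rw [← Finset.add_sum_erase _ _ honeB] at horth
  simp only [one, map_one, mul_one] at horth
  by_cases hex : ∃ χ ∈ B, (χ : G → ℂ) ≠ fun _ => 1
  · obtain ⟨φ, hφB, hφ1⟩ := hex
    set r := charDegree (φ : G → ℂ) with hr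
    have hsum : ∑ χ ∈ B.toFinset.erase one, (χ : G → ℂ) 1 * conj ((χ : G → ℂ) x) =
        (r : ℂ) * ∑ χ ∈ B.toFinset.erase one, conj ((χ : G → ℂ) x) := by
      rw [Finset.mul_sum]
      refine Finset.sum_congr rfl fun χ hχ => ?_
      obtain ⟨hne, hmem⟩ := Finset.mem_erase.1 hχ
      rw [(charDegree_spec' χ.2).1, hsame χ (Set.mem_toFinset.1 hmem)
        (fun e1 => hne (Subtype.ext e1)) φ hφB hφ1]
    simp only [one] at hsum
    rw [hsum] at horth
    set Z := ∑ χ ∈ B.toFinset.erase ⟨fun _ => 1, isIrrCharacter_one⟩, conj ((χ : G → ℂ) x) with hZ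
    have hZint : IsIntegral ℤ Z := IsIntegral.sum _ fun χ _ => by
      rw [← char_apply_inv (isCharacter_of_irr χ.2)]
      obtain ⟨k, σ, -, hσ⟩ := χ.2
      rw [← hσ]
      exact isIntegral_character σ _
    have hr0 : (r : ℂ) ≠ 0 := Nat.cast_ne_zero.2 (charDegree_spec' φ.2).2.ne'
    have : IsIntegral ℤ (((-1 : ℚ) / r : ℚ) : ℂ) := by
      convert hZint using 1
      push_cast
      rw [div_eq_iff hr0]
      linear_combination -horth
    obtain ⟨m, hm⟩ := exists_int_of_isIntegral_ratCast this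
    rw [div_eq_iff (Nat.cast_ne_zero.2 (charDegree_spec' φ.2).2.ne')] at hm
    have h2' : (-1 : ℤ) = m * r := by exact_mod_cast hm
    have h3' : (r : ℤ) ∣ 1 := ⟨-m, by linear_combination -h2'⟩
    have h4' : r ∣ 1 := by exact_mod_cast h3'
    have := (hfacts φ hφB hφ1).2.1
    rw [Nat.dvd_one] at h4'
    omega
  · push Not at hex
    rw [Finset.sum_eq_zero (fun χ hχ => ?_), add_zero] at horth
    · exact one_ne_zero horth
    · exfalso
      obtain ⟨hne, hmem⟩ := Finset.mem_erase.1 hχ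
      exact hne (Subtype.ext (hex χ (Set.mem_toFinset.1 hmem)))

theorem isSolvable_of_primeDegrees : ∀ (n : ℕ) (G : Type u) [Group G] [Finite G],
    Nat.card G ≤ n → HasPrimeDegrees G → Group.IsSolvable G := by
  intro n
  induction n with
  | zero =>
    intro G _ _ hn h
    exact absurd hn (by have := Nat.card_pos (α := G); omega)
  | succ n ih =>
    intro G _ _ hn h
    by_cases hab : ∀ a b : G, a * b = b * a
    · exact Group.isSolvable_of_comm hab
    push Not at hab
    by_cases hN : ∃ N : Subgroup G, N.Normal ∧ N ≠ ⊥ ∧ N ≠ ⊤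
    · obtain ⟨N, hNn, hN1, hN2⟩ := hN
      have hN1' : 1 < Nat.card N := N.one_lt_card_iff_ne_bot.2 hN1
      have hmul := N.card_mul_index
      have hpos : 0 < N.index := Nat.pos_of_ne_zero Subgroup.index_ne_zero_of_finite
      have hidx : N.index ≠ 1 := fun e => hN2 (Subgroup.index_eq_one.1 e)
      haveI := ih N (by
        have : Nat.card N * 2 ≤ Nat.card N * N.index := Nat.mul_le_mul_left _ (by omega)
        omega) (degree_conditions_normal N h)
      haveI := ih (G ⧸ N) (by
        rw [← Subgroup.index_eq_card]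
        have : 2 * N.index ≤ Nat.card N * N.index := Nat.mul_le_mul_right _ (by omega)
        omega) (degree_conditions_quotient N h)
      exact Group.isSolvable_of_ker_le_range N.subtype (QuotientGroup.mk' N)
        (by rw [QuotientGroup.ker_mk', Subgroup.range_subtype])
    · push Not at hN
      haveI : Nontrivial G := by
        obtain ⟨a, b, hab'⟩ := hab
        exact ⟨⟨a * b, b * a, hab'⟩⟩
      haveI : IsSimpleGroup G := ⟨fun N hNn => or_iff_not_imp_left.2 (hN N hNn)⟩
      exact (simple_false hab h).elim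

end CfsgLib.PrimeDegrees
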